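import Mathlib.AlgebraicGeometry.Morphisms.FlatDescent
import Mathlib.AlgebraicGeometry.Morphisms.LocalFlatDescent
import Mathlib.AlgebraicGeometry.Morphisms.Proper
import Mathlib.AlgebraicGeometry.Morphisms.Finite
import Mathlib.AlgebraicGeometry.Morphisms.Integral
import Mathlib.AlgebraicGeometry.Morphisms.QuasiFinite
import Mathlib.RingTheory.Finiteness.Descent

/-!
# fpqc descent of global properties of morphisms of schemes

`DescendsAlong P (Surjective ⊓ Flat ⊓ QuasiCompact)` for quasi-compact, quasi-separated,
affine, closed immersion, separated, proper, integral, finite and locally quasi-finite morphisms.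
-/

set_option autoImplicit false

universe u

open CategoryTheory Limits MorphismProperty AlgebraicGeometry

namespace Groth.Agent.FpqcDesc

theorem descendsAlong_inf (P P' Q : MorphismProperty Scheme.{u}) [hP : P.DescendsAlong Q]
    [hP' : P'.DescendsAlong Q] : (P ⊓ P').DescendsAlong Q where
  of_isPullback h hf hfst := ⟨of_isPullback_of_descendsAlong h hf hfst.1,
    of_isPullback_of_descendsAlong h hf hfst.2⟩

theorem isLocalIso_surjective_le :
    (@IsLocalIso ⊓ @Surjective : MorphismProperty Scheme.{u}) ≤
      (@Surjective ⊓ @Flat : MorphismProperty Scheme.{u}) := by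
  rw [inf_comm]
  exact inf_le_inf le_rfl (IsLocalIso.le_of_isZariskiLocalAtSource _)

theorem descendsAlong_quasiCompact :
    DescendsAlong @QuasiCompact (@Surjective ⊓ @Flat ⊓ @QuasiCompact : MorphismProperty Scheme.{u}) := by
  refine IsZariskiLocalAtTarget.descendsAlong_inf_quasiCompact _ _ isLocalIso_surjective_le ?_
  intro R S Y φ g h (hf : QuasiCompact (pullback.fst (Spec.map φ) g))
  obtain ⟨_, _⟩ := h
  have hc : CompactSpace ↥(pullback (Spec.map φ) g) :=
    (quasiCompact_iff_compactSpace (pullback.fst (Spec.map φ) g)).1 hf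
  show QuasiCompact g
  rw [quasiCompact_iff_compactSpace]
  exact Function.Surjective.compactSpace (pullback.snd (Spec.map φ) g).continuous
    (pullback.snd (Spec.map φ) g).surjective

theorem descendsAlong_quasiSeparated :
    DescendsAlong @QuasiSeparated (@Surjective ⊓ @Flat ⊓ @QuasiCompact : MorphismProperty Scheme.{u}) := by
  rw [quasiSeparated_eq_diagonal_is_quasiCompact]
  have := descendsAlong_quasiCompact.{u}
  infer_instance

theorem descendsAlong_isAffineHom :
    DescendsAlong @IsAffineHom (@Surjective ⊓ @Flat ⊓ @QuasiCompact : MorphismProperty Scheme.{u}) := by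
  refine IsZariskiLocalAtTarget.descendsAlong_inf_quasiCompact _ _ isLocalIso_surjective_le ?_
  intro R S Y φ g h (hf : IsAffineHom (pullback.fst (Spec.map φ) g))
  obtain ⟨_, _⟩ := h
  have hQ : (@Surjective ⊓ @Flat ⊓ @QuasiCompact : MorphismProperty Scheme.{u}) (Spec.map φ) :=
    ⟨⟨inferInstance, inferInstance⟩, inferInstance⟩
  have := descendsAlong_quasiCompact.{u}
  have := descendsAlong_quasiSeparated.{u}
  have : QuasiCompact g := of_pullback_fst_of_descendsAlong
    (P := @QuasiCompact) (f := Spec.map φ) hQ inferInstance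
  have : QuasiSeparated g := of_pullback_fst_of_descendsAlong
    (P := @QuasiSeparated) (f := Spec.map φ) hQ inferInstance
  have : CompactSpace Y := (quasiCompact_iff_compactSpace g).1 ‹_›
  have : QuasiSeparatedSpace Y := (quasiSeparated_iff_quasiSeparatedSpace g).1 ‹_›
  set f := Spec.map φ
  have H : IsPullback (pullback.snd f g) (pullback.fst f g) g f :=
    (IsPullback.of_hasPullback f g).flip
  have : IsAffine (pullback f g) := isAffine_of_isAffineHom (pullback.fst f g)
  have hpush : IsPushout g.appTop f.appTop (pullback.snd f g).appTop (pullback.fst f g).appTop := by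
    have := (isIso_pushoutSection_iff H (US := ⊤) (UT := ⊤) (UX := ⊤) (UY := ⊤) le_rfl le_rfl
      (by simp)).1 (isIso_pushoutSection_of_isQuasiSeparated_of_flat_right H le_rfl le_rfl (by simp)
        (isAffineOpen_top _) (isAffineOpen_top _) isCompact_univ isQuasiSeparated_univ)
    simpa [Scheme.Hom.appLE] using this
  have h1 : IsPullback (Spec.map (pullback.snd f g).appTop) (Spec.map (pullback.fst f g).appTop)
      (Spec.map g.appTop) (Spec.map f.appTop) := hpush.op.flip.map Scheme.Spec
  -- `X → Spec Γ X` for the pullback square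
  have h2 : IsPullback (pullback.snd f g) (pullback f g).toSpecΓ Y.toSpecΓ
      (Spec.map (pullback.snd f g).appTop) := by
    refine IsPullback.of_bot ?_ (Scheme.toSpecΓ_naturality _) h1
    exact H.of_iso (Iso.refl _) (Iso.refl _) (Spec S).isoSpec (Spec R).isoSpec
      (by simp) (by simpa using (Scheme.toSpecΓ_naturality _))
      (by simpa using (Scheme.toSpecΓ_naturality _)) (by simpa using (Scheme.toSpecΓ_naturality _))
  have hq : (@Surjective ⊓ @Flat ⊓ @QuasiCompact : MorphismProperty Scheme.{u})
      (Spec.map (pullback.snd f g).appTop) := by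
    refine MorphismProperty.of_isPullback h1.flip ?_
    exact (arrow_mk_iso_iff (@Surjective ⊓ @Flat ⊓ @QuasiCompact : MorphismProperty Scheme.{u})
      (arrowIsoSpecΓOfIsAffine f)).1 hQ
  have : (isomorphisms Scheme.{u}) (Y.toSpecΓ) :=
    of_isPullback_of_descendsAlong h2.flip hq (inferInstanceAs (IsIso (pullback f g).toSpecΓ))
  have : IsIso Y.toSpecΓ := this
  have : IsAffine Y := ⟨this⟩
  infer_instance

theorem descendsAlong_isClosedImmersion :
    DescendsAlong @IsClosedImmersion (@Surjective ⊓ @Flat ⊓ @QuasiCompact : MorphismProperty Scheme.{u}) := by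
  refine IsZariskiLocalAtTarget.descendsAlong_inf_quasiCompact _ _ isLocalIso_surjective_le ?_
  intro R S Y φ g h hfst
  have : IsClosedImmersion (pullback.fst (Spec.map φ) g) := hfst
  obtain ⟨_, _⟩ := h
  have hf : (@Surjective ⊓ @Flat ⊓ @QuasiCompact : MorphismProperty Scheme.{u}) (Spec.map φ) :=
    ⟨⟨inferInstance, inferInstance⟩, inferInstance⟩
  have : UniversallyInjective g := of_pullback_fst_of_descendsAlong
    (P := @UniversallyInjective) (f := Spec.map φ) hf inferInstance
  have : UniversallyClosed g := of_pullback_fst_of_descendsAlong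
    (P := @UniversallyClosed) (f := Spec.map φ) hf inferInstance
  have hg' := Topology.IsClosedEmbedding.of_continuous_injective_isClosedMap g.continuous g.injective g.isClosedMap
  have : IsAffineHom g := isAffineHom_of_isInducing g hg'.isInducing hg'.isClosed_range
  have : IsAffine Y := isAffine_of_isAffineHom g
  obtain ⟨ψ, hψ⟩ := Spec.map_surjective (Y.isoSpec.inv ≫ g)
  rw [← cancel_left_of_respectsIso (P := @IsClosedImmersion) Y.isoSpec.inv, ← hψ]
  refine of_pullback_fst_Spec_of_codescendsAlong (P := @IsClosedImmersion)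
      (P' := @Surjective ⊓ @Flat) (Q' := RingHom.FaithfullyFlat) (Q := fun f ↦ Function.Surjective f)
      RingHom.FaithfullyFlat.codescendsAlong_surjective ?_ ?_
      (f := Spec.map φ) ⟨inferInstance, inferInstance⟩ ?_
  · intro _ _ f hf
    rwa [← flat_and_surjective_SpecMap_iff, and_comm]
  · intro A B m
    refine ⟨fun h => ?_, fun h => IsClosedImmersion.spec_of_surjective _ h⟩
    have : (RingHom.toMorphismProperty (fun {A B : Type u} [CommRing A] [CommRing B] (f : A →+* B) =>
        Function.Surjective f)).RespectsIso :=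
      RingHom.toMorphismProperty_respectsIso_iff.mp RingHom.surjective_respectsIso
    exact (MorphismProperty.arrow_mk_iso_iff (RingHom.toMorphismProperty (fun f => Function.Surjective f))
      (arrowIsoΓSpecOfIsAffine m)).2 (IsClosedImmersion.isAffine_surjective_of_isAffine (Spec.map m)).2
  · rw [hψ]
    have heq : pullback.fst (Spec.map φ) (Y.isoSpec.inv ≫ g) =
      pullback.map _ _ _ _ (𝟙 _) Y.isoSpec.inv (𝟙 _) (by simp) (by simp) ≫
        pullback.fst (Spec.map φ) g := ((pullback.lift_fst _ _ _).trans (Category.comp_id _)).symm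
    rw [heq, cancel_left_of_respectsIso (P := @IsClosedImmersion)]
    infer_instance

theorem descendsAlong_isSeparated :
    DescendsAlong @IsSeparated (@Surjective ⊓ @Flat ⊓ @QuasiCompact : MorphismProperty Scheme.{u}) := by
  rw [IsSeparated.isSeparated_eq_diagonal_isClosedImmersion]
  have := descendsAlong_isClosedImmersion.{u}
  infer_instance

theorem descendsAlong_isProper :
    DescendsAlong @IsProper (@Surjective ⊓ @Flat ⊓ @QuasiCompact : MorphismProperty Scheme.{u}) := by
  rw [isProper_eq]
  have := descendsAlong_isSeparated.{u}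
  have := descendsAlong_inf (@IsSeparated) (@UniversallyClosed)
    (@Surjective ⊓ @Flat ⊓ @QuasiCompact : MorphismProperty Scheme.{u})
  exact descendsAlong_inf _ _ _

theorem descendsAlong_isIntegralHom :
    DescendsAlong @IsIntegralHom (@Surjective ⊓ @Flat ⊓ @QuasiCompact : MorphismProperty Scheme.{u}) := by
  rw [IsIntegralHom.eq_universallyClosed_inf_isAffineHom]
  have := descendsAlong_isAffineHom.{u}
  exact descendsAlong_inf _ _ _

theorem descendsAlong_isFinite :
    DescendsAlong @IsFinite (@Surjective ⊓ @Flat ⊓ @QuasiCompact : MorphismProperty Scheme.{u}) := by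
  have : (@IsFinite : MorphismProperty Scheme.{u}) =
      (@IsIntegralHom ⊓ @LocallyOfFiniteType : MorphismProperty Scheme.{u}) := by
    ext X Y f; exact IsFinite.iff_isIntegralHom_and_locallyOfFiniteType f
  rw [this]
  have := descendsAlong_isIntegralHom.{u}
  exact descendsAlong_inf _ _ _

instance : (@LocallyQuasiFinite ⊓ @LocallyOfFiniteType : MorphismProperty Scheme.{u}).IsStableUnderBaseChange :=
  MorphismProperty.IsStableUnderBaseChange.inf

theorem descendsAlong_locallyQuasiFinite :
    DescendsAlong (@LocallyQuasiFinite ⊓ @LocallyOfFiniteType : MorphismProperty Scheme.{u})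
      (@Surjective ⊓ @Flat ⊓ @QuasiCompact : MorphismProperty Scheme.{u}) := by
  refine IsZariskiLocalAtTarget.descendsAlong_inf_quasiCompact _ _ isLocalIso_surjective_le ?_
  intro R S Y φ g h hf
  obtain ⟨_, _⟩ := h
  have h2 : LocallyOfFiniteType g := of_pullback_fst_of_descendsAlong
    (P := @LocallyOfFiniteType) (Q := @Surjective ⊓ @Flat ⊓ @QuasiCompact) (f := Spec.map φ)
    ⟨⟨inferInstance, inferInstance⟩, inferInstance⟩ hf.2
  refine ⟨?_, h2⟩
  obtain ⟨hf₁, hf₂⟩ := hf
  rw [IsZariskiLocalAtSource.iff_of_openCover (P := @LocallyQuasiFinite) Y.affineCover]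
  intro i
  set g' := Y.affineCover.f i ≫ g
  have heq : pullback.fst (Spec.map φ) g' =
      pullback.map _ _ _ _ (𝟙 _) (Y.affineCover.f i) (𝟙 _) (by simp) (by simp [g']) ≫
        pullback.fst (Spec.map φ) g := ((pullback.lift_fst _ _ _).trans (Category.comp_id _)).symm
  have hl : LocallyQuasiFinite (pullback.fst (Spec.map φ) g') := by
    rw [heq]
    have : IsOpenImmersion (pullback.map (Spec.map φ) g' (Spec.map φ) g (𝟙 _) (Y.affineCover.f i)
      (𝟙 _) (by simp) (by simp [g'])) := inferInstance
    exact IsZariskiLocalAtSource.comp (P := @LocallyQuasiFinite) hf₁ _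
  rw [locallyQuasiFinite_iff_finite_preimage_singleton]
  intro x
  obtain ⟨s, hs⟩ := (Spec.map φ).surjective x
  refine (((pullback.fst (Spec.map φ) g').finite_preimage_singleton s).image
    (pullback.snd (Spec.map φ) g')).subset fun y hy => ?_
  obtain ⟨z, hz₁, hz₂⟩ := Scheme.Pullback.exists_preimage_pullback (f := Spec.map φ) (g := g') s y
    (hs.trans (Set.mem_singleton_iff.1 hy).symm)
  exact ⟨z, hz₁, hz₂⟩

end Groth.Agent.FpqcDesc
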